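import Cfsg.Agent.Lib.MinIndexU3.Psu
import Cfsg.Agent.Lib.Aschbacher.SUThree

/-!
A subgroup of index `50` in `PSU₃(5)`: the stabiliser of a set of `105` points.
-/

set_option autoImplicit false
set_option linter.unusedSectionVars false

namespace Cfsg.Agent.MinIndexU3

open Matrix
open Cfsg.Agent.Aschbacher.SUThree
open Cfsg.Agent.TwoConjBound.U3 (mat mat_mul mat_one mat_inj ofMat mat_ofMat)

variable {F : Type*} [Field F] [Fintype F] [CharP F 5] {σ : F ≃+* F} {θ : F}

/-- The stabiliser of the `105` points. -/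
def fiftySub (θ : F) : Subgroup ↥(Cfsg.SU 3 F 5) :=
  (permutes θ monPts).comap (Matrix.SpecialLinearGroup.toGL.comp (Cfsg.SU 3 F 5).subtype)

theorem mem_fiftySub {g : ↥(Cfsg.SU 3 F 5)} : g ∈ fiftySub θ ↔ ∀ a, ∃ b, ∃ c : F,
    mat g *ᵥ toV θ (monPts a) = c • toV θ (monPts b) := Iff.rfl

/-- The model matrix is the matrix of an element of the stabiliser. -/
def InK (θ : F) (A : Mat 5) : Prop := ∃ g ∈ fiftySub θ, mat g = toM θ A

theorem InK.of_glOf (hm : Model 5 σ θ) {A : Mat 5} (hA : IsSU A)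
    (h : glOf hm A hA ∈ permutes θ monPts) : InK θ A :=
  ⟨ofMat (toM θ A) (by rw [det_toM hm.sq, hA.2.2, toF_kone]) (glOf_mem hm A hA).1, h, mat_ofMat _ _ _⟩

theorem InK.mul (hm : Model 5 σ θ) {A B : Mat 5} (hA : InK θ A) (hB : InK θ B) :
    InK θ (mmul A B) := by
  obtain ⟨g, hg, eg⟩ := hA
  obtain ⟨g', hg', eg'⟩ := hB
  exact ⟨g * g', mul_mem hg hg', by rw [mat_mul, eg, eg', toM_mmul hm.sq]⟩

theorem InK.one : InK θ (mone : Mat 5) := ⟨1, one_mem _, by rw [mat_one, toM_mone]⟩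

open Fin.NatCast in
theorem InK.powers (hm : Model 5 σ θ) {n : ℕ} [NeZero n] {A : Mat 5} (P : Fin n → Mat 5)
    (h0 : P 0 = mone) (hs : ∀ k, mmul (P k) A = P (k + 1)) (hA : InK θ A) : ∀ k, InK θ (P k) := by
  have key : ∀ i : ℕ, InK θ (P ((i : ℕ) : Fin n)) := by
    intro i
    induction i with
    | zero => rw [Nat.cast_zero, h0]; exact InK.one
    | succ i ih => rw [Nat.cast_succ, ← hs]; exact ih.mul hm hA
  intro k
  simpa using key k.val

/-- A subgroup given by a closed list of model matrices. -/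
theorem dvd_card_fiftySub (hm : Model 5 σ θ) {n : ℕ} (P : Fin n → Mat 5)
    (hin : ∀ i, InK θ (P i)) (hinj : ∀ i j, P i = P j → i = j) (hone : ∃ i, P i = mone)
    (hmul : ∀ i j, ∃ k, mmul (P i) (P j) = P k) : n ∣ Nat.card ↥(fiftySub θ) := by
  let S : Submonoid ↥(Cfsg.SU 3 F 5) :=
    { carrier := {g | ∃ i, mat g = toM θ (P i)}
      one_mem' := by
        obtain ⟨i, hi⟩ := hone
        exact ⟨i, by rw [hi, mat_one, toM_mone]⟩
      mul_mem' := by
        rintro g g' ⟨i, hi⟩ ⟨j, hj⟩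
        obtain ⟨k, hk⟩ := hmul i j
        exact ⟨k, by rw [mat_mul, hi, hj, ← toM_mmul hm.sq, hk]⟩ }
  let L : Subgroup ↥(Cfsg.SU 3 F 5) :=
    { S with
      inv_mem' := fun {g} hg => by
        have h1 : g⁻¹ = g ^ (orderOf g - 1) := by
          refine inv_eq_of_mul_eq_one_right ?_
          rw [← pow_succ', Nat.sub_add_cancel (orderOf_pos g), pow_orderOf_eq_one]
        show g⁻¹ ∈ S
        rw [h1]
        exact pow_mem hg _ }
  choose g hg eg using hin
  have hcard : Nat.card L = n := by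
    let f : Fin n → L := fun i => ⟨g i, i, eg i⟩
    have hf : Function.Bijective f := by
      refine ⟨fun i j e => hinj i j (hm.toM_injective ?_), fun x => ?_⟩
      · rw [← eg i, ← eg j]
        exact congrArg (fun y : L => mat (y : ↥(Cfsg.SU 3 F 5))) e
      · obtain ⟨i, hi⟩ := x.2
        exact ⟨i, Subtype.ext (mat_inj ((eg i).trans hi.symm))⟩
    rw [← Nat.card_eq_of_bijective f hf, Nat.card_fin]
  have hle : L ≤ fiftySub θ := by
    rintro x ⟨i, hi⟩
    rw [mat_inj (hi.trans (eg i).symm)]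
    exact hg i
  rw [← hcard]
  exact Subgroup.card_dvd_of_le hle

/-- An element of order five. -/
def fiftyPow : Fin 5 → Mat 5 :=
  fun i => (fun M => mmul M (mmul (mmul monD1Mat monD2Mat) fiveXMat))^[i.val] mone

theorem fiftyPow_closed : (∀ i j, fiftyPow i = fiftyPow j → i = j) ∧ (∃ i, fiftyPow i = mone) ∧
    ∀ i j, ∃ k, mmul (fiftyPow i) (fiftyPow j) = fiftyPow k := by decide +kernel

/-- A group of order eight. -/
def fiftyTwo : Fin 8 → Mat 5 := fun i =>
  mmul (mmul (monD1Pow (![0, 3, 0, 3, 0, 3, 0, 3] i)) (monD2Pow (![0, 0, 3, 3, 0, 0, 3, 3] i)))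
    (monW (![0, 0, 0, 0, 3, 3, 3, 3] i))

theorem fiftyTwo_closed : (∀ i j, fiftyTwo i = fiftyTwo j → i = j) ∧ (∃ i, fiftyTwo i = mone) ∧
    ∀ i j, ∃ k, mmul (fiftyTwo i) (fiftyTwo j) = fiftyTwo k := by decide +kernel

/-- A group of order twenty-seven. -/
def fiftyThree : Fin 27 → Mat 5 := fun i =>
  mmul (mmul (monD1Pow (![0, 2, 4] (Fin.ofNat 3 (i.val % 3))))
    (monD2Pow (![0, 2, 4] (Fin.ofNat 3 (i.val / 3 % 3))))) (monW (![0, 1, 2] (Fin.ofNat 3 (i.val / 9))))

theorem fiftyThree_closed : (∀ i j, fiftyThree i = fiftyThree j → i = j) ∧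
    (∃ i, fiftyThree i = mone) ∧
    ∀ i j, ∃ k, mmul (fiftyThree i) (fiftyThree j) = fiftyThree k := by decide +kernel

theorem fiveXPow_closed : (∀ i j, fiveXPow i = fiveXPow j → i = j) ∧ (∃ i, fiveXPow i = mone) ∧
    ∀ i j, ∃ k, mmul (fiveXPow i) (fiveXPow j) = fiveXPow k := by decide +kernel

theorem card_fiftySub_dvd (hm : Model 5 σ θ) : 7560 ∣ Nat.card ↥(fiftySub θ) := by
  have hd1 : InK θ monD1Mat := InK.of_glOf hm monD1_unitary (glOf_mem_permutes hm monD1_unitary monD1_maps)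
  have hd2 : InK θ monD2Mat := InK.of_glOf hm monD2_unitary (glOf_mem_permutes hm monD2_unitary monD2_maps)
  have hsw : InK θ monSwapMat :=
    InK.of_glOf hm monSwap_unitary (glOf_mem_permutes hm monSwap_unitary monSwap_maps)
  have hcy : InK θ monCycMat :=
    InK.of_glOf hm monCyc_unitary (glOf_mem_permutes hm monCyc_unitary monCyc_maps)
  have hx : InK θ fiveXMat := InK.of_glOf hm fiveX_unitary (glOf_mem_permutes hm fiveX_unitary fiveX_maps)
  have hW : ∀ k, InK θ (monW k) := by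
    obtain ⟨e0, e1, e2, e3, e4, e5⟩ := monW_eq
    intro k
    fin_cases k
    · exact e0 ▸ InK.one
    · exact e1 ▸ hcy
    · exact e2 ▸ hcy.mul hm hcy
    · exact e3 ▸ hsw
    · exact e4 ▸ hsw.mul hm hcy
    · exact e5 ▸ hsw.mul hm (hcy.mul hm hcy)
  have hP1 := InK.powers hm monD1Pow monD1Pow_spec.1 monD1Pow_spec.2 hd1
  have hP2 := InK.powers hm monD2Pow monD2Pow_spec.1 monD2Pow_spec.2 hd2
  have hy : InK θ (mmul (mmul monD1Mat monD2Mat) fiveXMat) := (hd1.mul hm hd2).mul hm hx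
  have h5 : ∀ i : Fin 5, InK θ (fiftyPow i) := by
    intro i
    suffices ∀ k : ℕ, InK θ ((fun M => mmul M (mmul (mmul monD1Mat monD2Mat) fiveXMat))^[k] mone) from
      this i.val
    intro k
    induction k with
    | zero => exact InK.one
    | succ k ih => rw [Function.iterate_succ_apply']; exact ih.mul hm hy
  have d5 := dvd_card_fiftySub hm fiftyPow h5 fiftyPow_closed.1 fiftyPow_closed.2.1 fiftyPow_closed.2.2
  have d7 := dvd_card_fiftySub hm fiveXPow (InK.powers hm fiveXPow fiveXPow_zero fiveXPow_succ hx)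
    fiveXPow_closed.1 fiveXPow_closed.2.1 fiveXPow_closed.2.2
  have d8 := dvd_card_fiftySub hm fiftyTwo (fun i => ((hP1 _).mul hm (hP2 _)).mul hm (hW _))
    fiftyTwo_closed.1 fiftyTwo_closed.2.1 fiftyTwo_closed.2.2
  have d27 := dvd_card_fiftySub hm fiftyThree (fun i => ((hP1 _).mul hm (hP2 _)).mul hm (hW _))
    fiftyThree_closed.1 fiftyThree_closed.2.1 fiftyThree_closed.2.2
  have h1 := Nat.Coprime.mul_dvd_of_dvd_of_dvd (by norm_num) d5 d7
  have h2 := Nat.Coprime.mul_dvd_of_dvd_of_dvd (by norm_num) d8 d27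
  exact Nat.Coprime.mul_dvd_of_dvd_of_dvd (m := 35) (n := 216) (by norm_num) h1 h2

theorem fiftySub_ne_top (hm : Model 5 σ θ) : fiftySub θ ≠ ⊤ := by
  intro e
  set g : ↥(Cfsg.SU 3 F 5) := ofMat (toM θ monTMat)
    (by rw [det_toM hm.sq, monT_unitary.2.2, toF_kone]) (glOf_mem hm monTMat monT_unitary).1 with hg
  have h1 : g ∈ fiftySub θ := by rw [e]; exact Subgroup.mem_top _
  exact glOf_not_mem_permutes hm monT_unitary mon_moved h1

omit [CharP F 5] in
/-- `PSU₃(5)` has a subgroup of index `50`. -/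
theorem psu_five_exists_index (hF : Fintype.card F = 25) :
    ∃ H : Subgroup (Cfsg.PSU 3 F 5), H.index = 50 := by
  have hF' : Fintype.card F = 5 ^ 2 := by rw [hF]; norm_num
  haveI : Fact (Nat.Prime 5) := ⟨by norm_num⟩
  haveI : CharP F 5 := charP_of_card_eq_prime_pow hF'
  obtain ⟨σ, θ, hm⟩ := exists_model (F := F) (p := 5) (Or.inr rfl) hF'
  have hZ : Subgroup.center ↥(Cfsg.SU 3 F 5) ≤ fiftySub θ := fun x hx a => by
    obtain ⟨z, hz⟩ := scalar_of_central hF' hx
    exact ⟨a, z, hz _⟩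
  have hmul := (fiftySub θ).card_mul_index
  rw [card_SU3 hF'] at hmul
  norm_num [-Subgroup.card_mul_index] at hmul
  obtain ⟨c, hc⟩ := card_fiftySub_dvd hm
  have h50 : 50 ≤ (fiftySub θ).index := by
    rcases index_bound hF' (fiftySub θ) (by norm_num) (fiftySub_ne_top hm) hZ with h | ⟨-, h⟩
    · omega
    · exact h
  have hidx : (fiftySub θ).index = 50 := by
    have h1 : c * (fiftySub θ).index = 50 := by
      refine Nat.eq_of_mul_eq_mul_left (show 0 < 7560 by norm_num) ?_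
      rw [← mul_assoc, ← hc, hmul]
    rcases Nat.eq_zero_or_pos c with h | h
    · rw [h] at h1; omega
    · nlinarith
  refine ⟨(fiftySub θ).map (QuotientGroup.mk' (Subgroup.center ↥(Cfsg.SU 3 F 5))), ?_⟩
  rw [Subgroup.index_map_eq _ (QuotientGroup.mk'_surjective _) (by rw [QuotientGroup.ker_mk']; exact hZ),
    hidx]

end Cfsg.Agent.MinIndexU3
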